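import Cfsg.Agent.Lib.LyTwo.Engine
import Cfsg.Agent.Lib.LyTwo.Cert.Mats0
import Cfsg.Agent.Lib.LyTwo.Cert.Mats1

/-! Generated checks of matrix products. -/
set_option autoImplicit false

namespace CfsgLib.LyTwo.Cert

theorem prod0 : mulCheck 111 111 m1 m1 m6 = true := by decide +kernel

theorem prod1 : mulCheck 111 111 m6 m1 m7 = true := by decide +kernel

theorem prod2 : mulCheck 111 111 m7 m7 m8 = true := by decide +kernel

theorem prod3 : mulCheck 111 111 m8 m1 m9 = true := by decide +kernel

theorem prod4 : mulCheck 111 111 m2 m2 m10 = true := by decide +kernel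

theorem prod5 : mulCheck 111 111 m10 m10 m11 = true := by decide +kernel

theorem prod6 : mulCheck 111 111 m3 m3 m12 = true := by decide +kernel

theorem prod7 : mulCheck 111 111 m12 m12 m13 = true := by decide +kernel

theorem prod8 : mulCheck 111 111 m4 m4 m14 = true := by decide +kernel

theorem prod9 : mulCheck 111 111 m14 m4 m15 = true := by decide +kernel

end CfsgLib.LyTwo.Cert
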