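import Cfsg.Agent.Lib.LyTwo.Engine
import Cfsg.Agent.Lib.LyTwo.Cert.Mats0
import Cfsg.Agent.Lib.LyTwo.Cert.Mats1

/-! Generated checks of matrix products. -/
set_option autoImplicit false

namespace CfsgLib.LyTwo.Cert

theorem prod10 : mulCheck 111 111 m6 m5 m16 = true := by decide +kernel

theorem prod11 : mulCheck 111 111 m8 m5 m17 = true := by decide +kernel

theorem prod12 : mulCheck 111 111 m13 m9 m18 = true := by decide +kernel

theorem prod13 : mulCheck 111 111 m18 m13 m19 = true := by decide +kernel

theorem prod14 : mulCheck 111 111 m19 m1 m20 = true := by decide +kernel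

theorem prod15 : mulCheck 111 111 m20 m3 m21 = true := by decide +kernel

theorem prod16 : mulCheck 111 111 m21 m9 m22 = true := by decide +kernel

theorem prod17 : mulCheck 111 111 m22 m3 m23 = true := by decide +kernel

theorem prod18 : mulCheck 111 111 m23 m1 m24 = true := by decide +kernel

theorem prod19 : mulCheck 111 111 m24 m24 m25 = true := by decide +kernel

end CfsgLib.LyTwo.Cert
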