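import Cfsg.Agent.Lib.LyTwo.Engine
import Cfsg.Agent.Lib.LyTwo.Cert.Mats0
import Cfsg.Agent.Lib.LyTwo.Cert.Mats2
import Cfsg.Agent.Lib.LyTwo.Cert.Mats4
import Cfsg.Agent.Lib.LyTwo.Cert.Mats5

/-! Generated checks of matrix products. -/
set_option autoImplicit false

namespace CfsgLib.LyTwo.Cert

theorem prod100 : mulCheck 111 111 m65 m4 m9 = true := by decide +kernel

theorem prod101 : mulCheck 111 111 m61 m74 m75 = true := by decide +kernel

theorem prod102 : mulCheck 111 111 m61 m78 m79 = true := by decide +kernel

theorem prod103 : mulCheck 111 111 m61 m81 m82 = true := by decide +kernel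

theorem prod104 : mulCheck 111 111 m61 m83 m84 = true := by decide +kernel

theorem prod105 : mulCheck 111 111 m85 m85 m8 = true := by decide +kernel

theorem prod106 : mulCheck 111 111 m6 m38 m85 = true := by decide +kernel

theorem prod107 : mulCheck 111 111 m8 m38 m86 = true := by decide +kernel

theorem prod108 : mulCheck 111 111 m86 m38 m0 = true := by decide +kernel

theorem prod109 : mulCheck 111 111 m0 m0 m0 = true := by decide +kernel

end CfsgLib.LyTwo.Cert
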