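import Cfsg.Agent.Lib.LyTwo.Engine
import Cfsg.Agent.Lib.LyTwo.Cert.Mats0
import Cfsg.Agent.Lib.LyTwo.Cert.Mats1
import Cfsg.Agent.Lib.LyTwo.Cert.Mats2

/-! Generated checks of matrix products. -/
set_option autoImplicit false

namespace CfsgLib.LyTwo.Cert

theorem prod20 : mulCheck 111 111 m25 m25 m26 = true := by decide +kernel

theorem prod21 : mulCheck 111 111 m10 m1 m27 = true := by decide +kernel

theorem prod22 : mulCheck 111 111 m27 m11 m28 = true := by decide +kernel

theorem prod23 : mulCheck 111 111 m28 m11 m29 = true := by decide +kernel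

theorem prod24 : mulCheck 111 111 m11 m1 m30 = true := by decide +kernel

theorem prod25 : mulCheck 111 111 m30 m2 m31 = true := by decide +kernel

theorem prod26 : mulCheck 111 111 m31 m1 m32 = true := by decide +kernel

theorem prod27 : mulCheck 111 111 m32 m2 m33 = true := by decide +kernel

theorem prod28 : mulCheck 111 111 m33 m2 m34 = true := by decide +kernel

theorem prod29 : mulCheck 111 111 m5 m4 m35 = true := by decide +kernel

end CfsgLib.LyTwo.Cert
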