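import Cfsg.Agent.Lib.LyTwo.Engine
import Cfsg.Agent.Lib.LyTwo.Cert.Mats0
import Cfsg.Agent.Lib.LyTwo.Cert.Mats1
import Cfsg.Agent.Lib.LyTwo.Cert.Mats2
import Cfsg.Agent.Lib.LyTwo.Cert.Mats3

/-! Generated checks of matrix products. -/
set_option autoImplicit false

namespace CfsgLib.LyTwo.Cert

theorem prod30 : mulCheck 111 111 m35 m5 m36 = true := by decide +kernel

theorem prod31 : mulCheck 111 111 m36 m4 m37 = true := by decide +kernel

theorem prod32 : mulCheck 111 111 m37 m5 m38 = true := by decide +kernel

theorem prod33 : mulCheck 111 111 m2 m5 m39 = true := by decide +kernel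

theorem prod34 : mulCheck 111 111 m39 m4 m40 = true := by decide +kernel

theorem prod35 : mulCheck 111 111 m40 m2 m41 = true := by decide +kernel

theorem prod36 : mulCheck 111 111 m41 m5 m42 = true := by decide +kernel

theorem prod37 : mulCheck 111 111 m42 m26 m43 = true := by decide +kernel

theorem prod38 : mulCheck 111 111 m43 m4 m44 = true := by decide +kernel

theorem prod39 : mulCheck 111 111 m44 m2 m45 = true := by decide +kernel

end CfsgLib.LyTwo.Cert
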