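import Cfsg.Agent.Lib.LyTwo.Engine
import Cfsg.Agent.Lib.LyTwo.Cert.Mats0
import Cfsg.Agent.Lib.LyTwo.Cert.Mats1
import Cfsg.Agent.Lib.LyTwo.Cert.Mats3

/-! Generated checks of matrix products. -/
set_option autoImplicit false

namespace CfsgLib.LyTwo.Cert

theorem prod40 : mulCheck 111 111 m45 m5 m46 = true := by decide +kernel

theorem prod41 : mulCheck 111 111 m46 m11 m47 = true := by decide +kernel

theorem prod42 : mulCheck 111 111 m47 m24 m48 = true := by decide +kernel

theorem prod43 : mulCheck 111 111 m26 m2 m49 = true := by decide +kernel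

theorem prod44 : mulCheck 111 111 m49 m17 m50 = true := by decide +kernel

theorem prod45 : mulCheck 111 111 m50 m11 m51 = true := by decide +kernel

theorem prod46 : mulCheck 111 111 m51 m15 m52 = true := by decide +kernel

theorem prod47 : mulCheck 111 111 m52 m24 m53 = true := by decide +kernel

theorem prod48 : mulCheck 111 111 m53 m17 m54 = true := by decide +kernel

theorem prod49 : mulCheck 111 111 m54 m11 m55 = true := by decide +kernel

end CfsgLib.LyTwo.Cert
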