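import Cfsg.Agent.Lib.LyTwo.Engine
import Cfsg.Agent.Lib.LyTwo.Cert.Mats0
import Cfsg.Agent.Lib.LyTwo.Cert.Mats1
import Cfsg.Agent.Lib.LyTwo.Cert.Mats2
import Cfsg.Agent.Lib.LyTwo.Cert.Mats3
import Cfsg.Agent.Lib.LyTwo.Cert.Mats4

/-! Generated checks of matrix products. -/
set_option autoImplicit false

namespace CfsgLib.LyTwo.Cert

theorem prod50 : mulCheck 111 111 m55 m15 m56 = true := by decide +kernel

theorem prod51 : mulCheck 111 111 m56 m17 m57 = true := by decide +kernel

theorem prod52 : mulCheck 111 111 m57 m11 m58 = true := by decide +kernel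

theorem prod53 : mulCheck 111 111 m1 m4 m59 = true := by decide +kernel

theorem prod54 : mulCheck 111 111 m48 m59 m60 = true := by decide +kernel

theorem prod55 : mulCheck 111 111 m60 m58 m61 = true := by decide +kernel

theorem prod56 : mulCheck 111 111 m1 m38 m62 = true := by decide +kernel

theorem prod57 : mulCheck 111 111 m59 m4 m63 = true := by decide +kernel

theorem prod58 : mulCheck 111 111 m4 m38 m64 = true := by decide +kernel

theorem prod59 : mulCheck 111 111 m4 m1 m65 = true := by decide +kernel

end CfsgLib.LyTwo.Cert
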