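import Cfsg.Agent.Lib.LyTwo.Engine
import Cfsg.Agent.Lib.LyTwo.Cert.Mats0
import Cfsg.Agent.Lib.LyTwo.Cert.Mats1
import Cfsg.Agent.Lib.LyTwo.Cert.Mats2
import Cfsg.Agent.Lib.LyTwo.Cert.Mats4
import Cfsg.Agent.Lib.LyTwo.Cert.Mats5

/-! Generated checks of matrix products. -/
set_option autoImplicit false

namespace CfsgLib.LyTwo.Cert

theorem prod60 : mulCheck 111 111 m65 m1 m66 = true := by decide +kernel

theorem prod61 : mulCheck 111 111 m29 m38 m67 = true := by decide +kernel

theorem prod62 : mulCheck 111 111 m14 m29 m68 = true := by decide +kernel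

theorem prod63 : mulCheck 111 111 m34 m38 m69 = true := by decide +kernel

theorem prod64 : mulCheck 111 111 m29 m34 m70 = true := by decide +kernel

theorem prod65 : mulCheck 111 111 m70 m4 m71 = true := by decide +kernel

theorem prod66 : mulCheck 111 111 m38 m71 m72 = true := by decide +kernel

theorem prod67 : mulCheck 111 111 m1 m61 m73 = true := by decide +kernel

theorem prod68 : mulCheck 111 111 m38 m9 m74 = true := by decide +kernel

theorem prod69 : mulCheck 111 111 m4 m61 m75 = true := by decide +kernel

end CfsgLib.LyTwo.Cert
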