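import Cfsg.Agent.Lib.LyTwo.Engine
import Cfsg.Agent.Lib.LyTwo.Cert.Mats0
import Cfsg.Agent.Lib.LyTwo.Cert.Mats1
import Cfsg.Agent.Lib.LyTwo.Cert.Mats2
import Cfsg.Agent.Lib.LyTwo.Cert.Mats3
import Cfsg.Agent.Lib.LyTwo.Cert.Mats4
import Cfsg.Agent.Lib.LyTwo.Cert.Mats5

/-! Generated checks of matrix products. -/
set_option autoImplicit false

namespace CfsgLib.LyTwo.Cert

theorem prod70 : mulCheck 111 111 m34 m4 m76 = true := by decide +kernel

theorem prod71 : mulCheck 111 111 m76 m1 m77 = true := by decide +kernel

theorem prod72 : mulCheck 111 111 m38 m77 m78 = true := by decide +kernel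

theorem prod73 : mulCheck 111 111 m29 m61 m79 = true := by decide +kernel

theorem prod74 : mulCheck 111 111 m59 m29 m80 = true := by decide +kernel

theorem prod75 : mulCheck 111 111 m38 m80 m81 = true := by decide +kernel

theorem prod76 : mulCheck 111 111 m34 m61 m82 = true := by decide +kernel

theorem prod77 : mulCheck 111 111 m38 m70 m83 = true := by decide +kernel

theorem prod78 : mulCheck 111 111 m38 m61 m84 = true := by decide +kernel

theorem prod79 : mulCheck 111 111 m6 m38 m85 = true := by decide +kernel

end CfsgLib.LyTwo.Cert
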