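import Cfsg.Agent.Lib.LyTwo.Engine
import Cfsg.Agent.Lib.LyTwo.Cert.Mats0
import Cfsg.Agent.Lib.LyTwo.Cert.Mats1
import Cfsg.Agent.Lib.LyTwo.Cert.Mats2
import Cfsg.Agent.Lib.LyTwo.Cert.Mats3
import Cfsg.Agent.Lib.LyTwo.Cert.Mats4
import Cfsg.Agent.Lib.LyTwo.Cert.Mats5

/-! Generated checks of matrix products. -/
set_option autoImplicit false

namespace CfsgLib.LyTwo.Cert

theorem prod80 : mulCheck 111 111 m8 m38 m86 = true := by decide +kernel

theorem prod81 : mulCheck 111 111 m86 m61 m87 = true := by decide +kernel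

theorem prod82 : mulCheck 111 111 m5 m5 m6 = true := by decide +kernel

theorem prod83 : mulCheck 111 111 m16 m16 m8 = true := by decide +kernel

theorem prod84 : mulCheck 111 111 m2 m2 m10 = true := by decide +kernel

theorem prod85 : mulCheck 111 111 m1 m1 m6 = true := by decide +kernel

theorem prod86 : mulCheck 111 111 m6 m6 m14 = true := by decide +kernel

theorem prod87 : mulCheck 111 111 m48 m58 m0 = true := by decide +kernel

theorem prod88 : mulCheck 111 111 m0 m1 m1 = true := by decide +kernel

theorem prod89 : mulCheck 111 111 m61 m61 m0 = true := by decide +kernel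

end CfsgLib.LyTwo.Cert
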