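import Cfsg.Agent.Lib.LyTwo.Cert.Nodes
import Cfsg.Agent.Lib.LyTwo.Cert.Chk0
import Cfsg.Agent.Lib.LyTwo.Cert.Chk1
import Cfsg.Agent.Lib.LyTwo.Cert.Chk2
import Cfsg.Agent.Lib.LyTwo.Cert.Chk3
import Cfsg.Agent.Lib.LyTwo.Cert.Chk4
import Cfsg.Agent.Lib.LyTwo.Cert.Chk5
import Cfsg.Agent.Lib.LyTwo.Cert.Chk6
import Cfsg.Agent.Lib.LyTwo.Cert.Chk7
import Cfsg.Agent.Lib.LyTwo.Cert.Chk8
import Cfsg.Agent.Lib.LyTwo.Cert.Chk9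
import Cfsg.Agent.Lib.LyTwo.Cert.Chk10

/-! All products hold. -/
set_option autoImplicit false
set_option maxRecDepth 20000

namespace CfsgLib.LyTwo.Cert

theorem steps_ok : ∀ x ∈ steps.zipIdx 6, mulCheck 111 111 (node x.1.1) (node x.1.2) (node x.2) = true :=
  List.forall_mem_cons.2 ⟨prod0, List.forall_mem_cons.2 ⟨prod1, List.forall_mem_cons.2 ⟨prod2, List.forall_mem_cons.2 ⟨prod3, List.forall_mem_cons.2 ⟨prod4, List.forall_mem_cons.2 ⟨prod5, List.forall_mem_cons.2 ⟨prod6, List.forall_mem_cons.2 ⟨prod7, List.forall_mem_cons.2 ⟨prod8, List.forall_mem_cons.2 ⟨prod9, List.forall_mem_cons.2 ⟨prod10, List.forall_mem_cons.2 ⟨prod11, List.forall_mem_cons.2 ⟨prod12, List.forall_mem_cons.2 ⟨prod13, List.forall_mem_cons.2 ⟨prod14, List.forall_mem_cons.2 ⟨prod15, List.forall_mem_cons.2 ⟨prod16, List.forall_mem_cons.2 ⟨prod17, List.forall_mem_cons.2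 ⟨prod18, List.forall_mem_cons.2 ⟨prod19, List.forall_mem_cons.2 ⟨prod20, List.forall_mem_cons.2 ⟨prod21, List.forall_mem_cons.2 ⟨prod22, List.forall_mem_cons.2 ⟨prod23, List.forall_mem_cons.2 ⟨prod24, List.forall_mem_cons.2 ⟨prod25, List.forall_mem_cons.2 ⟨prod26, List.forall_mem_cons.2 ⟨prod27, List.forall_mem_cons.2 ⟨prod28, List.forall_mem_cons.2 ⟨prod29, List.forall_mem_cons.2 ⟨prod30, List.forall_mem_cons.2 ⟨prod31, List.forall_mem_cons.2 ⟨prod32, List.forall_mem_cons.2 ⟨prod33, List.forall_mem_cons.2 ⟨prod34, List.forall_mem_cons.2 ⟨prod35, List.forall_mem_cons.2 ⟨prod36, List.forall_mem_cons.2 ⟨prod37, List.forall_mem_cons.2 ⟨prod38, List.forall_mem_cons.2 ⟨prod39, List.forall_mem_cons.2 ⟨prod40, List.forall_mem_cons.2 ⟨prod41, List.forall_mem_cons.2 ⟨prod42, List.forall_mem_cons.2 ⟨prod43, List.forall_mem_cons.2 ⟨prod44,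 List.forall_mem_cons.2 ⟨prod45, List.forall_mem_cons.2 ⟨prod46, List.forall_mem_cons.2 ⟨prod47, List.forall_mem_cons.2 ⟨prod48, List.forall_mem_cons.2 ⟨prod49, List.forall_mem_cons.2 ⟨prod50, List.forall_mem_cons.2 ⟨prod51, List.forall_mem_cons.2 ⟨prod52, List.forall_mem_cons.2 ⟨prod53, List.forall_mem_cons.2 ⟨prod54, List.forall_mem_cons.2 ⟨prod55, List.forall_mem_cons.2 ⟨prod56, List.forall_mem_cons.2 ⟨prod57, List.forall_mem_cons.2 ⟨prod58, List.forall_mem_cons.2 ⟨prod59, List.forall_mem_cons.2 ⟨prod60, List.forall_mem_cons.2 ⟨prod61, List.forall_mem_cons.2 ⟨prod62, List.forall_mem_cons.2 ⟨prod63, List.forall_mem_cons.2 ⟨prod64, List.forall_mem_cons.2 ⟨prod65, List.forall_mem_cons.2 ⟨prod66, List.forall_mem_cons.2 ⟨prod67, List.forall_mem_cons.2 ⟨prod68, List.forall_mem_cons.2 ⟨prod69, List.forall_mem_cons.2 ⟨prod70, List.forall_mem_cons.2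 ⟨prod71, List.forall_mem_cons.2 ⟨prod72, List.forall_mem_cons.2 ⟨prod73, List.forall_mem_cons.2 ⟨prod74, List.forall_mem_cons.2 ⟨prod75, List.forall_mem_cons.2 ⟨prod76, List.forall_mem_cons.2 ⟨prod77, List.forall_mem_cons.2 ⟨prod78, List.forall_mem_cons.2 ⟨prod79, List.forall_mem_cons.2 ⟨prod80, List.forall_mem_cons.2 ⟨prod81, List.forall_mem_nil _⟩⟩⟩⟩⟩⟩⟩⟩⟩⟩⟩⟩⟩⟩⟩⟩⟩⟩⟩⟩⟩⟩⟩⟩⟩⟩⟩⟩⟩⟩⟩⟩⟩⟩⟩⟩⟩⟩⟩⟩⟩⟩⟩⟩⟩⟩⟩⟩⟩⟩⟩⟩⟩⟩⟩⟩⟩⟩⟩⟩⟩⟩⟩⟩⟩⟩⟩⟩⟩⟩⟩⟩⟩⟩⟩⟩⟩⟩⟩⟩⟩⟩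

theorem facts_ok : ∀ x ∈ facts, mulCheck 111 111 (node x.1) (node x.2.1) (node x.2.2) = true :=
  List.forall_mem_cons.2 ⟨prod82, List.forall_mem_cons.2 ⟨prod83, List.forall_mem_cons.2 ⟨prod84, List.forall_mem_cons.2 ⟨prod85, List.forall_mem_cons.2 ⟨prod86, List.forall_mem_cons.2 ⟨prod87, List.forall_mem_cons.2 ⟨prod88, List.forall_mem_cons.2 ⟨prod89, List.forall_mem_cons.2 ⟨prod90, List.forall_mem_cons.2 ⟨prod91, List.forall_mem_cons.2 ⟨prod92, List.forall_mem_cons.2 ⟨prod93, List.forall_mem_cons.2 ⟨prod94, List.forall_mem_cons.2 ⟨prod95, List.forall_mem_cons.2 ⟨prod96, List.forall_mem_cons.2 ⟨prod97, List.forall_mem_cons.2 ⟨prod98, List.forall_mem_cons.2 ⟨prod99, List.forall_mem_cons.2 ⟨prod100, List.forall_mem_cons.2 ⟨prod101, List.forall_mem_cons.2 ⟨prod102, List.forall_mem_cons.2 ⟨prod103, List.forall_mem_cons.2 ⟨prod104,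 List.forall_mem_cons.2 ⟨prod105, List.forall_mem_cons.2 ⟨prod106, List.forall_mem_cons.2 ⟨prod107, List.forall_mem_cons.2 ⟨prod108, List.forall_mem_cons.2 ⟨prod109, List.forall_mem_nil _⟩⟩⟩⟩⟩⟩⟩⟩⟩⟩⟩⟩⟩⟩⟩⟩⟩⟩⟩⟩⟩⟩⟩⟩⟩⟩⟩⟩

end CfsgLib.LyTwo.Cert
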