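import Mathlib.Data.List.Defs

/-! Generated data: the matrices commuting with the group of order 64. -/
set_option autoImplicit false

namespace CfsgLib.LyTwo.Cert

/-- coefficients of each entry on the three free ones -/
def projC : List (ℕ × ℕ × ℕ) :=
  [(1, 0, 0), (0, 0, 0), (0, 0, 0), (0, 0, 0), (0, 0, 0), (0, 0, 0), (0, 0, 0), (0, 0, 0), (1, 0, 0), (0, 0, 0), (0, 0, 0), (0, 0, 0), (0, 0, 0), (0, 0, 0), (0, 0, 0), (0, 0, 0), (0, 1, 0), (0, 0, 3), (0, 0, 4), (0, 0, 0), (0, 0, 0), (0, 0, 0), (0, 0, 0), (0, 0, 0), (0, 1, 2), (0, 0, 1), (0, 0, 0), (0, 0, 0), (0, 0, 0), (0, 0, 0), (0, 0, 0), (0, 0, 0), (0, 1, 0), (0, 0, 0), (0, 0, 0), (0, 0, 0), (0, 0, 0), (0, 0, 0), (0, 0, 0), (0, 0, 0), (1, 0, 0), (0, 0, 0), (0, 0, 0), (0, 0, 0), (0, 0, 0), (0, 0, 0), (0, 0, 0), (0, 0, 0), (1, 0, 0)]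

/-- combinations of the equations giving the entries -/
def commC : List (List (ℕ × ℕ)) :=
  [[(0, 3), (41, 4), (54, 3), (55, 1), (98, 2)],
   [(0, 1), (98, 4)],
   [(3, 4), (4, 2), (9, 3)],
   [(2, 4), (4, 2), (10, 3)],
   [(2, 3), (3, 3), (11, 3)],
   [(5, 4), (6, 3), (12, 2)],
   [(5, 4), (6, 2), (13, 2)],
   [(0, 4), (98, 3)],
   [(1, 2), (41, 4), (54, 3), (55, 1)],
   [(2, 1), (9, 1), (10, 4), (11, 2)],
   [(3, 1), (9, 4), (10, 1), (11, 2)],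
   [(4, 1), (9, 3), (10, 3), (11, 1)],
   [(5, 4), (12, 3), (13, 3)],
   [(6, 4), (12, 4), (13, 1)],
   [(15, 4), (21, 1), (28, 2)],
   [(14, 2), (15, 4), (22, 1), (29, 2)],
   [(16, 3), (17, 4), (18, 3), (23, 1), (114, 1), (115, 1)],
   [(16, 2), (17, 1), (23, 4), (114, 4), (115, 4)],
   [(17, 3), (23, 2), (114, 1), (115, 2), (163, 1)],
   [(19, 4), (20, 4), (26, 3), (33, 1)],
   [(19, 2), (20, 3), (27, 3), (34, 1)],
   [(14, 1), (22, 4), (28, 2)],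
   [(15, 1), (21, 2), (22, 4), (29, 2)],
   [(16, 2), (163, 4)],
   [(16, 2), (17, 4), (18, 3), (23, 2), (114, 3), (115, 1), (163, 4)],
   [],
   [(19, 3), (26, 4), (27, 4), (33, 1)],
   [(20, 3), (26, 2), (27, 3), (34, 1)],
   [(14, 3), (21, 3), (29, 4)],
   [(15, 3), (22, 3), (28, 2), (29, 4)],
   [(16, 2), (114, 1), (163, 2)],
   [(16, 3), (17, 4), (114, 3), (115, 3), (163, 2)],
   [],
   [(19, 4), (26, 4), (33, 4), (34, 4)],
   [(20, 4), (27, 4), (33, 2), (34, 3)],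
   [(35, 1), (36, 1), (42, 1)],
   [(35, 3), (36, 2), (43, 1)],
   [(37, 1), (38, 2), (39, 1), (44, 3)],
   [(37, 2), (38, 1), (39, 1), (45, 3)],
   [(37, 4), (38, 4), (39, 1), (46, 3)],
   [(0, 3), (41, 4), (55, 1), (98, 2)],
   [(0, 1), (55, 2), (98, 4)],
   [(35, 2), (42, 3), (43, 1)],
   [(36, 2), (42, 3), (43, 4)],
   [(37, 1), (44, 2), (45, 2), (46, 1)],
   [(38, 1), (44, 2), (45, 2), (46, 1)],
   [(39, 1), (44, 4), (45, 4), (46, 2)],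
   [(0, 2), (40, 1), (55, 4), (98, 3)],
   []]

end CfsgLib.LyTwo.Cert
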