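import Cfsg.Agent.Lib.LyTwo.Engine
import Cfsg.Agent.Lib.LyTwo.Cert.Mats0
import Cfsg.Agent.Lib.LyTwo.Cert.Mats1
import Cfsg.Agent.Lib.LyTwo.Cert.Mats2
import Cfsg.Agent.Lib.LyTwo.Cert.Mats4

/-! Generated checks of matrix products. -/
set_option autoImplicit false

namespace CfsgLib.LyTwo.Cert

theorem prod90 : mulCheck 111 111 m38 m63 m62 = true := by decide +kernel

theorem prod91 : mulCheck 111 111 m0 m4 m4 = true := by decide +kernel

theorem prod92 : mulCheck 111 111 m38 m66 m64 = true := by decide +kernel

theorem prod93 : mulCheck 111 111 m4 m4 m14 = true := by decide +kernel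

theorem prod94 : mulCheck 111 111 m38 m68 m67 = true := by decide +kernel

theorem prod95 : mulCheck 111 111 m0 m34 m34 = true := by decide +kernel

theorem prod96 : mulCheck 111 111 m38 m34 m69 = true := by decide +kernel

theorem prod97 : mulCheck 111 111 m38 m38 m6 = true := by decide +kernel

theorem prod98 : mulCheck 111 111 m0 m29 m29 = true := by decide +kernel

theorem prod99 : mulCheck 111 111 m61 m72 m73 = true := by decide +kernel

end CfsgLib.LyTwo.Cert
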