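import Cfsg.Agent.Lib.LyTwo.Cert.Mats0
import Cfsg.Agent.Lib.LyTwo.Cert.Mats1
import Cfsg.Agent.Lib.LyTwo.Cert.Mats2
import Cfsg.Agent.Lib.LyTwo.Cert.Mats3
import Cfsg.Agent.Lib.LyTwo.Cert.Mats4
import Cfsg.Agent.Lib.LyTwo.Cert.Mats5

/-! The table of matrices. -/
set_option autoImplicit false

namespace CfsgLib.LyTwo.Cert

/-- the matrix numbered `k` -/
def node (k : ℕ) : List ℕ :=
  [m0, m1, m2, m3, m4, m5, m6, m7, m8, m9, m10, m11, m12, m13, m14, m15, m16, m17, m18, m19, m20, m21, m22, m23, m24, m25, m26, m27, m28, m29, m30, m31, m32, m33, m34, m35, m36, m37, m38, m39, m40, m41, m42, m43, m44, m45, m46, m47, m48, m49, m50, m51, m52, m53, m54, m55, m56, m57, m58, m59, m60, m61, m62, m63, m64, m65, m66, m67, m68, m69, m70, m71, m72, m73, m74, m75, m76, m77, m78, m79, m80, m81, m82, m83, m84, m85, m86, m87].getD k []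

/-- the steps defining the elements -/
def steps : List (ℕ × ℕ) :=
  [(1, 1), (6, 1), (7, 7), (8, 1), (2, 2), (10, 10), (3, 3), (12, 12), (4, 4), (14, 4), (6, 5), (8, 5), (13, 9), (18, 13), (19, 1), (20, 3), (21, 9), (22, 3), (23, 1), (24, 24), (25, 25), (10, 1), (27, 11), (28, 11), (11, 1), (30, 2), (31, 1), (32, 2), (33, 2), (5, 4), (35, 5), (36, 4), (37, 5), (2, 5), (39, 4), (40, 2), (41, 5), (42, 26), (43, 4), (44, 2), (45, 5), (46, 11), (47, 24), (26, 2), (49, 17), (50, 11), (51, 15), (52, 24), (53, 17), (54, 11), (55, 15), (56, 17), (57, 11), (1, 4), (48, 59), (60, 58), (1, 38), (59, 4), (4, 38), (4, 1), (65, 1), (29, 38), (14, 29), (34, 38), (29, 34), (70, 4), (38, 71), (1, 61), (38, 9), (4, 61), (34, 4), (76, 1), (38, 77), (29, 61), (59, 29), (38, 80), (34, 61), (38, 70), (38, 61), (6, 38), (8, 38), (86, 61)]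

/-- further products -/
def facts : List (ℕ × ℕ × ℕ) :=
  [(5, 5, 6), (16, 16, 8), (2, 2, 10), (1, 1, 6), (6, 6, 14), (48, 58, 0), (0, 1, 1), (61, 61, 0), (38, 63, 62), (0, 4, 4), (38, 66, 64), (4, 4, 14), (38, 68, 67), (0, 34, 34), (38, 34, 69), (38, 38, 6), (0, 29, 29), (61, 72, 73), (65, 4, 9), (61, 74, 75), (61, 78, 79), (61, 81, 82), (61, 83, 84), (85, 85, 8), (6, 38, 85), (8, 38, 86), (86, 38, 0), (0, 0, 0)]

end CfsgLib.LyTwo.Cert
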